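/-
S1617, `reduce`: from the rank-3 hypotheses: either `D` is a class of 3-transpositions, or there is a prime
`p ≥ 5` with every two members of `D` commuting or with product of order `p`.
-/
import Cfsg.Agent.S0215
import Cfsg.Agent.S0205
import Cfsg.Agent.S0200
import Cfsg.Agent.Lib.OddTrans.LemmaZ
import Cfsg.Prelude.Def_SporadicB

set_option autoImplicit false
set_option linter.unusedSectionVars false
set_option linter.unusedVariables false

namespace Cfsg.Agent.Lib.OddTrans.RankReduce

open Subgroup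

variable {G : Type*} [Group G]

lemma order_conj (g a : G) : orderOf (g * a * g⁻¹) = orderOf a := by
  simpa using (MulAut.conj g).orderOf_eq a

lemma inv_self_of {d : G} (h : orderOf d = 2) : d * d = 1 := by
  rw [← sq, ← h, pow_orderOf_eq_one]

lemma inv_eq_self_of {d : G} (h : orderOf d = 2) : d⁻¹ = d :=
  inv_eq_of_mul_eq_one_left (inv_self_of h)

/-- Elementary consequence of the rank hypothesis: two orders. -/
lemma exists_orders {D : Set G}
    (hconj : ∃ d ∈ D, D = conjugatesOf d)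
    (hrank : ∀ x ∈ D, ∃ y ∈ D, ∃ z ∈ D, {w : G | ∃ g : G, Commute g x ∧ g * y * g⁻¹ = w} ≠ {w : G | ∃ g : G, Commute g x ∧ g * x * g⁻¹ = w} ∧ {w : G | ∃ g : G, Commute g x ∧ g * z * g⁻¹ = w} ≠ {w : G | ∃ g : G, Commute g x ∧ g * x * g⁻¹ = w} ∧ {w : G | ∃ g : G, Commute g x ∧ g * y * g⁻¹ = w} ≠ {w : G | ∃ g : G, Commute g x ∧ g * z * g⁻¹ = w} ∧ D = {w : G | ∃ g : G, Commute g x ∧ g * x * g⁻¹ = w} ∪ {w : G | ∃ g : G, Commute g x ∧ g * y * g⁻¹ = w} ∪ {w : G | ∃ g : G, Commute g x ∧ g * z * g⁻¹ = w}) :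
    ∃ x ∈ D, ∃ y ∈ D, ∃ n₁ n₂ : ℕ, x ≠ y ∧ orderOf (x * y) = n₁ ∧
      ∀ a ∈ D, ∀ b ∈ D, a ≠ b → orderOf (a * b) = n₁ ∨ orderOf (a * b) = n₂ := by
  obtain ⟨d, hd, hD⟩ := hconj
  obtain ⟨y, hy, z, hz, h1, h2, h3, h4⟩ := hrank d hd
  have hself : {w : G | ∃ g : G, Commute g d ∧ g * d * g⁻¹ = w} = {d} := by
    ext w
    simp only [Set.mem_setOf_eq, Set.mem_singleton_iff]
    constructor
    · rintro ⟨g, hg, rfl⟩
      rw [hg.eq]; group
    · rintro rfl
      exact ⟨1, Commute.one_left _, by group⟩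
  have hne : d ≠ y := by
    rintro rfl
    exact h1 rfl
  refine ⟨d, hd, y, hy, orderOf (d * y), orderOf (d * z), hne, rfl, ?_⟩
  have key : ∀ w ∈ D, w = d ∨ orderOf (d * w) = orderOf (d * y) ∨ orderOf (d * w) = orderOf (d * z) := by
    intro w hw
    rw [h4] at hw
    rcases hw with (hw | ⟨g, hg, rfl⟩) | ⟨g, hg, rfl⟩
    · left
      rw [hself] at hw
      exact hw
    · right; left
      have : d * (g * y * g⁻¹) = g * (d * y) * g⁻¹ := by
        have e : d * g = g * d := hg.eq.symm
        calc d * (g * y * g⁻¹) = (d * g) * y * g⁻¹ := by group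
          _ = (g * d) * y * g⁻¹ := by rw [e]
          _ = g * (d * y) * g⁻¹ := by group
      rw [this, order_conj]
    · right; right
      have : d * (g * z * g⁻¹) = g * (d * z) * g⁻¹ := by
        have e : d * g = g * d := hg.eq.symm
        calc d * (g * z * g⁻¹) = (d * g) * z * g⁻¹ := by group
          _ = (g * d) * z * g⁻¹ := by rw [e]
          _ = g * (d * z) * g⁻¹ := by group
      rw [this, order_conj]
  intro a ha b hb hab
  have ha' : a ∈ conjugatesOf d := hD ▸ ha
  have ha'' : IsConj d a := ha'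
  obtain ⟨g, rfl⟩ := isConj_iff.mp ha''
  have hb' : g⁻¹ * b * g ∈ D := by
    have hb'' : IsConj d b := (hD ▸ hb : b ∈ conjugatesOf d)
    rw [hD]
    show IsConj d _
    refine hb''.trans ?_
    exact isConj_iff.mpr ⟨g⁻¹, by group⟩
  have e : g * d * g⁻¹ * b = g * (d * (g⁻¹ * b * g)) * g⁻¹ := by group
  rcases key _ hb' with h | h | h
  · exfalso
    apply hab
    have : b = g * d * g⁻¹ := by
      rw [← h]; group
    exact this.symm
  · left; rw [e, order_conj, h]
  · right; rw [e, order_conj, h]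

/-- Two involutions of `D`, with no commuting distinct pair in `D`, and 2-power order product are equal. -/
lemma eq_of_two_power {D : Set G} (hinv : ∀ d ∈ D, orderOf d = 2)
    (hcl : ∀ a ∈ D, ∀ g : G, g * a * g⁻¹ ∈ D)
    (hno : ∀ a ∈ D, ∀ b ∈ D, a ≠ b → orderOf (a * b) ≠ 2) {x x' : G} (hx : x ∈ D) (hx' : x' ∈ D) {k : ℕ}
    (hk : orderOf (x * x') = 2 ^ k) : x = x' := by
  by_contra hne
  have hxx := inv_self_of (hinv x hx)
  have hxx' := inv_self_of (hinv x' hx')
  have hxi := inv_eq_self_of (hinv x hx)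
  have hxi' := inv_eq_self_of (hinv x' hx')
  set ρ := x * x' with hρ
  have hρx : x * ρ * x = ρ⁻¹ := by
    rw [hρ, mul_inv_rev, hxi, hxi', ← mul_assoc, hxx, one_mul]
  have hk0 : k ≠ 0 := by
    rintro rfl
    rw [pow_zero, orderOf_eq_one_iff] at hk
    apply hne
    calc x = ρ * x' := by rw [hρ, mul_assoc, hxx', mul_one]
      _ = x' := by rw [hk, one_mul]
  have hk1 : k ≠ 1 := by
    rintro rfl
    exact hno x hx x' hx' hne (by rw [← hρ, hk, pow_one])
  obtain ⟨j, rfl⟩ : ∃ j, k = j + 2 := ⟨k - 2, by omega⟩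
  have hconj' := LemmaZ.dih_gen hxx hρx (2 ^ j)
  have hw : ρ ^ (2 * 2 ^ j) * x ∈ D := by
    rw [← hconj']; exact hcl x hx _
  have hprod : x * (ρ ^ (2 * 2 ^ j) * x) = (ρ⁻¹) ^ (2 * 2 ^ j) := by
    have := conj_pow (a := x) (b := ρ) (i := 2 * 2 ^ j)
    rw [hxi, hρx] at this
    rw [← mul_assoc]
    exact this.symm
  have hord : orderOf ((ρ⁻¹) ^ (2 * 2 ^ j)) = 2 := by
    have hpos : 0 < 2 * 2 ^ j := by positivity
    rw [orderOf_pow' _ (by positivity), orderOf_inv, hk]
    have : Nat.gcd (2 ^ (j + 2)) (2 * 2 ^ j) = 2 * 2 ^ j := by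
      apply Nat.gcd_eq_right
      exact ⟨2, by rw [pow_add]; ring⟩
    rw [this, pow_add]
    have : 2 ^ j * 2 ^ 2 = (2 * 2 ^ j) * 2 := by ring
    rw [this]
    exact Nat.mul_div_cancel_left _ hpos
  refine hno x hx _ hw ?_ (by rw [hprod, hord])
  intro h
  have := hprod
  rw [← h, hxx] at this
  have h1 : (ρ⁻¹) ^ (2 * 2 ^ j) = 1 := this.symm
  rw [h1, orderOf_one] at hord
  omega

/-- No commuting pair at all: impossible, by Z* and the Odd Order Theorem. -/
lemma no_isolated [Finite G] (hsol : ∀ N : Subgroup G, N.Normal → Group.IsSolvable ↥N → N = ⊥) {D : Set G}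
    (hinv : ∀ d ∈ D, orderOf d = 2) (hcl : ∀ a ∈ D, ∀ g : G, g * a * g⁻¹ ∈ D)
    (hcls : ∀ a ∈ D, ∀ b ∈ D, ∃ g : G, g * a * g⁻¹ = b)
    (hno : ∀ a ∈ D, ∀ b ∈ D, a ≠ b → orderOf (a * b) ≠ 2) {x y : G} (hx : x ∈ D) (hy : y ∈ D) (hne : x ≠ y) :
    False := by
  classical
  have hxo := hinv x hx
  obtain ⟨P⟩ : Nonempty (Sylow 2 G) := inferInstance
  obtain ⟨P, hP⟩ : ∃ P : Sylow 2 G, x ∈ P := by
    have hpg : IsPGroup 2 (Subgroup.zpowers x) := by
      rw [IsPGroup.iff_card]
      refine ⟨1, ?_⟩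
      rw [Nat.card_zpowers, hxo, pow_one]
    obtain ⟨Q, hQ⟩ := hpg.exists_le_sylow
    exact ⟨Q, hQ (Subgroup.mem_zpowers x)⟩
  haveI : Fact (Nat.Prime 2) := ⟨Nat.prime_two⟩
  obtain ⟨N, hN, hodd, hcomm⟩ := Cfsg.Agent.S0215.result P x hxo hP (by
    intro g hg
    have hgD := hcl x hx g
    have hmem : x * (g * x * g⁻¹) ∈ (P : Subgroup G) := mul_mem hP hg
    obtain ⟨k, hk⟩ := (IsPGroup.iff_orderOf.mp P.isPGroup') ⟨_, hmem⟩
    have hk' : orderOf (x * (g * x * g⁻¹)) = 2 ^ k := by
      rw [← hk]; simp [Subgroup.orderOf_mk]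
    exact (eq_of_two_power hinv hcl hno hx hgD hk').symm)
  have hN1 : N = ⊥ := hsol N hN (Cfsg.Agent.S0205.result hodd)
  subst hN1
  obtain ⟨g, hg⟩ := hcls x hx y hy
  apply hne
  have h1 := hcomm g
  rw [Subgroup.mem_bot] at h1
  have hxi := inv_eq_self_of hxo
  rw [← hg]
  have h2 : x * g * x⁻¹ = g := by
    have := mul_eq_one_iff_eq_inv.mp h1
    rw [inv_inv] at this
    exact this
  calc x = x * g * x⁻¹ * (x * g⁻¹ * x⁻¹) * x := by group
    _ = g * (x * g⁻¹ * x⁻¹) * x := by rw [h2]
    _ = g * (x * g * x⁻¹)⁻¹ * x := by group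
    _ = g * g⁻¹ * x := by rw [h2]
    _ = g * x * g⁻¹ := by
      have : g * x = x * g := by
        have h3 : x * g = g * x := by
          calc x * g = x * g * x⁻¹ * x := by group
            _ = g * x := by rw [h2]
        exact h3.symm
      rw [this]; group

/-- `G` is generated by commuting involutions: contradiction with `hsol`. -/
lemma no_all_commute [Finite G] (hsol : ∀ N : Subgroup G, N.Normal → Group.IsSolvable ↥N → N = ⊥) {D : Set G}
    (hgen : closure D = ⊤) (hcomm : ∀ a ∈ D, ∀ b ∈ D, Commute a b) {x : G} (hx : x ≠ 1) : False := by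
  have hab : ∀ a b : G, a * b = b * a := by
    have hle : closure D = ⊤ := hgen
    letI := Subgroup.closureCommGroupOfComm (k := D) hcomm
    intro a b
    have ha : a ∈ closure D := hgen ▸ Subgroup.mem_top a
    have hb : b ∈ closure D := hgen ▸ Subgroup.mem_top b
    have := mul_comm (⟨a, ha⟩ : closure D) ⟨b, hb⟩
    exact congrArg Subtype.val this
  have hs : Group.IsSolvable ↥(⊤ : Subgroup G) := by
    letI : CommGroup ↥(⊤ : Subgroup G) :=
      { (inferInstance : Group ↥(⊤ : Subgroup G)) with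
        mul_comm := fun a b => Subtype.ext (hab a b) }
    exact isSolvable_of_comm (fun a b => Subtype.ext (hab a b))
  have := hsol ⊤ inferInstance hs
  have hx' : x ∈ (⊤ : Subgroup G) := Subgroup.mem_top x
  rw [this, Subgroup.mem_bot] at hx'
  exact hx hx'

/-- `n` even: contradiction. -/
lemma not_even_order [Finite G] (hsol : ∀ N : Subgroup G, N.Normal → Group.IsSolvable ↥N → N = ⊥) {D : Set G}
    (hinv : ∀ d ∈ D, orderOf d = 2) (hcl : ∀ a ∈ D, ∀ g : G, g * a * g⁻¹ ∈ D)
    (hcls : ∀ a ∈ D, ∀ b ∈ D, ∃ g : G, g * a * g⁻¹ = b) (hgen : closure D = ⊤) {n : ℕ}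
    (hn : ∀ a ∈ D, ∀ b ∈ D, a ≠ b → orderOf (a * b) = 2 ∨ orderOf (a * b) = n) {x y : G} (hx : x ∈ D)
    (hy : y ∈ D) (hxy : orderOf (x * y) = n) (hn3 : 3 ≤ n) (heven : Even n) : False := by
  have hxx := inv_self_of (hinv x hx)
  have hyy := inv_self_of (hinv y hy)
  have hxi := inv_eq_self_of (hinv x hx)
  have hyi := inv_eq_self_of (hinv y hy)
  have hn4 : n = 4 := by
    have hw : y * x * y⁻¹ ∈ D := hcl x hx y
    have hprod : x * (y * x * y⁻¹) = (x * y) ^ 2 := by
      rw [hyi, sq]; group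
    have hord : orderOf ((x * y) ^ 2) = n / 2 := by
      rw [orderOf_pow' _ (by norm_num), hxy, Nat.gcd_eq_right heven.two_dvd]
    have hne : x ≠ y * x * y⁻¹ := by
      intro h
      have h1 : (x * y) ^ 2 = 1 := by
        rw [← hprod, ← h, hxx]
      have h2 := orderOf_le_of_pow_eq_one (by norm_num) h1
      omega
    obtain ⟨m, hm⟩ := heven
    rcases hn x hx _ hw hne with h | h <;> rw [hprod, hord] at h <;> omega
  subst hn4
  by_cases hN : ∃ N : Subgroup G, N.Normal ∧ IsPGroup 2 N ∧ x ∈ N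
  · obtain ⟨N, hNn, hNp, hxN⟩ := hN
    have hDN : D ⊆ N := by
      intro d hd
      obtain ⟨g, hg⟩ := hcls x hx d hd
      rw [← hg]
      exact hNn.conj_mem x hxN g
    have hNtop : N = ⊤ := by
      rw [eq_top_iff, ← hgen]
      exact (closure_le N).mpr hDN
    haveI : Fact (Nat.Prime 2) := ⟨Nat.prime_two⟩
    have hnil : Group.IsNilpotent ↥N := hNp.isNilpotent
    have hNbot := hsol N hNn inferInstance
    rw [hNbot, Subgroup.mem_bot] at hxN
    have := hinv x hx
    rw [hxN, orderOf_one] at this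
    omega
  · push Not at hN
    obtain ⟨h, hh1, hhodd, hh⟩ := Cfsg.Agent.S0200.result x (hinv x hx) (fun N hNn hNp => hN N hNn hNp)
    have hw : h * x * h⁻¹ ∈ D := hcl x hx h
    rw [hxi] at hh
    have hprod : x * (h * x * h⁻¹) = (h⁻¹) ^ 2 := by
      calc x * (h * x * h⁻¹) = (x * h * x) * h⁻¹ := by group
        _ = (h⁻¹) ^ 2 := by rw [hh, sq]
    have hord : orderOf ((h⁻¹) ^ 2) = orderOf h := by
      rw [orderOf_pow' _ (by norm_num), orderOf_inv]
      have hc : Nat.Coprime (orderOf h) 2 := by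
        exact Nat.Coprime.symm (Nat.coprime_two_left.mpr hhodd)
      rw [hc, Nat.div_one]
    have hne : x ≠ h * x * h⁻¹ := by
      intro e
      rw [← e, hxx] at hprod
      rw [← hprod, orderOf_one] at hord
      exact hh1 (orderOf_eq_one_iff.mp hord.symm)
    rcases hn x hx _ hw hne with e | e <;> rw [hprod, hord] at e <;> rw [e] at hhodd
    · exact absurd hhodd (by decide)
    · exact absurd hhodd (by decide)

/-- `n` odd and composite: contradiction. -/
lemma prime_of_odd_order {D : Set G}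
    (hinv : ∀ d ∈ D, orderOf d = 2) (hcl : ∀ a ∈ D, ∀ g : G, g * a * g⁻¹ ∈ D) {n : ℕ}
    (hn : ∀ a ∈ D, ∀ b ∈ D, a ≠ b → orderOf (a * b) = 2 ∨ orderOf (a * b) = n) {x y : G} (hx : x ∈ D)
    (hy : y ∈ D) (hxy : orderOf (x * y) = n) (hn3 : 3 ≤ n) (hodd : Odd n) : n.Prime := by
  by_contra hnp
  have hxx := inv_self_of (hinv x hx)
  have hyy := inv_self_of (hinv y hy)
  have hxi := inv_eq_self_of (hinv x hx)
  have hyi := inv_eq_self_of (hinv y hy)
  set ρ := x * y with hρ
  have hρx : x * ρ * x = ρ⁻¹ := by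
    rw [hρ, mul_inv_rev, hxi, hyi, ← mul_assoc, hxx, one_mul]
  have hxy' : orderOf ρ = n := hxy
  set r := n.minFac with hr
  have hrp : r.Prime := Nat.minFac_prime (by omega)
  have hrd : r ∣ n := Nat.minFac_dvd n
  obtain ⟨s, hs⟩ := hrd
  have hs1 : s ≠ 1 := by
    rintro rfl
    rw [mul_one] at hs
    exact hnp (by rw [hs]; exact hrp)
  have hspos : 0 < s := by
    rcases Nat.eq_zero_or_pos s with h | h
    · subst h; omega
    · exact h
  obtain ⟨m, hm⟩ := hodd
  have hpow : ρ ^ (2 * (r * (m + 1))) = ρ ^ r := by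
    have e : 2 * (r * (m + 1)) = r + r * n := by rw [hm]; ring
    rw [e, pow_add, Nat.mul_comm r n, pow_mul, ← hxy', pow_orderOf_eq_one, one_pow, mul_one]
  have hconj' := LemmaZ.dih_gen hxx hρx (r * (m + 1))
  rw [hpow] at hconj'
  have hw : ρ ^ r * x ∈ D := by
    rw [← hconj']; exact hcl x hx _
  have hprod : x * (ρ ^ r * x) = (ρ⁻¹) ^ r := by
    have := conj_pow (a := x) (b := ρ) (i := r)
    rw [hxi, hρx] at this
    rw [← mul_assoc]
    exact this.symm
  have hord : orderOf ((ρ⁻¹) ^ r) = s := by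
    rw [orderOf_pow' _ hrp.ne_zero, orderOf_inv, hxy', Nat.gcd_eq_right (Dvd.intro _ hs.symm)]
    rw [hs]
    exact Nat.mul_div_cancel_left _ hrp.pos
  have hne : x ≠ ρ ^ r * x := by
    intro e
    have h1 : (ρ⁻¹) ^ r = 1 := by
      rw [← hprod, ← e, hxx]
    rw [h1, orderOf_one] at hord
    exact hs1 hord.symm
  rcases hn x hx _ hw hne with e | e <;> rw [hprod, hord] at e
  · subst e
    omega
  · have hr1 := hrp.one_lt
    have : s * 2 ≤ r * s := Nat.mul_comm s 2 ▸ Nat.mul_le_mul_right s hrp.two_le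
    omega

/-- The reduction: `D` is a class of 3-transpositions, or `p ≥ 5` prime and every two members of `D`
commute or have product of order `p` (with a noncommuting pair of order `p` and a commuting pair of distinct
members). -/
theorem reduce [Finite G] (hsol : ∀ N : Subgroup G, N.Normal → Group.IsSolvable ↥N → N = ⊥) {D : Set G} (hinv : ∀ d ∈ D, orderOf d = 2) (hconj : ∃ d ∈ D, D = conjugatesOf d) (hgen : Subgroup.closure D = ⊤) (hrank : ∀ x ∈ D, ∃ y ∈ D, ∃ z ∈ D, {w : G | ∃ g : G, Commute g x ∧ g * y * g⁻¹ = w} ≠ {w : G | ∃ g : G, Commute g x ∧ g * x * g⁻¹ = w} ∧ {w : G | ∃ g : G, Commute g x ∧ g * z * g⁻¹ = w} ≠ {w : G | ∃ g : G, Commute g x ∧ g * x * g⁻¹ = w} ∧ {w : G | ∃ g : G, Commute g x ∧ g * y * g⁻¹ = w} ≠ {w : G | ∃ g : G, Commute g x ∧ g * z * g⁻¹ = w} ∧ D = {w : G | ∃ g : G, Commute g x ∧ g * x * g⁻¹ = w} ∪ {w : G | ∃ g : G, Commute g x ∧ g * y * g⁻¹ = w} ∪ {w : G | ∃ g : G, Commute g x ∧ g * z * g⁻¹ = w}) :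
    Cfsg.IsThreeTranspositionClass D ∨ ∃ p : ℕ, p.Prime ∧ 5 ≤ p ∧
      (∀ a ∈ D, ∀ b ∈ D, Commute a b ∨ orderOf (a * b) = p) := by
  classical
  have hcl : ∀ a ∈ D, ∀ g : G, g * a * g⁻¹ ∈ D := by
    obtain ⟨d, hd, hD⟩ := hconj
    intro a ha g
    have ha' : IsConj d a := (hD ▸ ha : a ∈ conjugatesOf d)
    rw [hD]
    show IsConj d _
    exact ha'.trans (isConj_iff.mpr ⟨g, rfl⟩)
  have hcls : ∀ a ∈ D, ∀ b ∈ D, ∃ g : G, g * a * g⁻¹ = b := by
    obtain ⟨d, hd, hD⟩ := hconj
    intro a ha b hb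
    have ha' : IsConj d a := (hD ▸ ha : a ∈ conjugatesOf d)
    have hb' : IsConj d b := (hD ▸ hb : b ∈ conjugatesOf d)
    exact isConj_iff.mp (ha'.symm.trans hb')
  have hcomm2 : ∀ a ∈ D, ∀ b ∈ D, a ≠ b → Commute a b → orderOf (a * b) = 2 := by
    intro a ha b hb hab hc
    refine orderOf_eq_prime ?_ ?_
    · rw [hc.mul_pow, sq, sq, inv_self_of (hinv a ha), inv_self_of (hinv b hb), one_mul]
    · intro h
      apply hab
      have : b⁻¹ = b := inv_eq_self_of (hinv b hb)
      rw [← this]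
      exact mul_eq_one_iff_eq_inv.mp h
  have hcomm2' : ∀ a ∈ D, ∀ b ∈ D, orderOf (a * b) = 2 → Commute a b := by
    intro a ha b hb h
    have h1 : (a * b) ^ 2 = 1 := by rw [← h, pow_orderOf_eq_one]
    have h2 : a * b * (a * b) = 1 := by rw [← sq]; exact h1
    have hai := inv_eq_self_of (hinv a ha)
    have hbi := inv_eq_self_of (hinv b hb)
    have h3 : a * b = (a * b)⁻¹ := mul_eq_one_iff_eq_inv.mp h2
    rw [mul_inv_rev, hai, hbi] at h3
    exact h3
  obtain ⟨x, hx, y, hy, n₁, n₂, hne, hxy, hord⟩ := exists_orders hconj hrank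
  have hx1 : x ≠ 1 := by
    intro h
    have := hinv x hx
    rw [h, orderOf_one] at this
    omega
  have hn1 : n₁ ≠ 1 := by
    rintro rfl
    rw [orderOf_eq_one_iff] at hxy
    apply hne
    have : y⁻¹ = y := inv_eq_self_of (hinv y hy)
    rw [← this]
    exact mul_eq_one_iff_eq_inv.mp hxy
  -- Cases
  by_cases h1 : n₁ = 2
  · subst h1
    by_cases h2 : n₂ = 2
    · subst h2
      exfalso
      refine no_all_commute hsol hgen ?_ hx1
      intro a ha b hb
      by_cases hab : a = b
      · rw [hab]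
      · exact hcomm2' a ha b hb (by rcases hord a ha b hb hab with h | h <;> exact h)
    · -- `n₂` must occur, else no noncommuting pair: then everything commutes.
      by_cases hocc : ∃ a ∈ D, ∃ b ∈ D, orderOf (a * b) = n₂ ∧ a ≠ b
      · obtain ⟨a, ha, b, hb, hab, hne'⟩ := hocc
        have hn2 : n₂ ≠ 1 := by
          rintro rfl
          rw [orderOf_eq_one_iff] at hab
          apply hne'
          have : b⁻¹ = b := inv_eq_self_of (hinv b hb)
          rw [← this]
          exact mul_eq_one_iff_eq_inv.mp hab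
        have hn20 : n₂ ≠ 0 := by
          rintro rfl
          exact (orderOf_pos (a * b)).ne' hab
        have hn3 : 3 ≤ n₂ := by omega
        rcases Nat.even_or_odd n₂ with hev | hod
        · exact (not_even_order hsol hinv hcl hcls hgen hord ha hb hab hn3 hev).elim
        · have hp := prime_of_odd_order hinv hcl hord ha hb hab hn3 hod
          have hall : ∀ c ∈ D, ∀ e ∈ D, Commute c e ∨ orderOf (c * e) = n₂ := by
            intro c hc e he
            by_cases hce : c = e
            · left; rw [hce]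
            · rcases hord c hc e he hce with h | h
              · left; exact hcomm2' c hc e he h
              · right; exact h
          by_cases h3 : n₂ = 3
          · left
            subst h3
            refine ⟨⟨hinv, ?_⟩, hconj, hgen⟩
            intro c hc e he
            rcases hall c hc e he with h | h
            · left
              rw [h.mul_pow, sq, sq, inv_self_of (hinv c hc), inv_self_of (hinv e he), one_mul]
            · right
              rw [← h, pow_orderOf_eq_one]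
          · right
            refine ⟨n₂, hp, ?_, hall⟩
            have : n₂ ≠ 4 := by
              rintro rfl
              exact absurd hod (by decide)
            omega
      · exfalso
        push Not at hocc
        refine no_all_commute hsol hgen ?_ hx1
        intro a ha b hb
        by_cases hab : a = b
        · rw [hab]
        · rcases hord a ha b hb hab with h | h
          · exact hcomm2' a ha b hb h
          · exact absurd (hocc a ha b hb h) hab
  · by_cases h2 : n₂ = 2
    · subst h2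
      have hord' : ∀ a ∈ D, ∀ b ∈ D, a ≠ b → orderOf (a * b) = 2 ∨ orderOf (a * b) = n₁ := by
        intro a ha b hb hab
        exact (hord a ha b hb hab).symm
      have hn10 : n₁ ≠ 0 := by
        rintro rfl
        exact (orderOf_pos (x * y)).ne' hxy
      have hn3 : 3 ≤ n₁ := by omega
      rcases Nat.even_or_odd n₁ with hev | hod
      · exact (not_even_order hsol hinv hcl hcls hgen hord' hx hy hxy hn3 hev).elim
      · have hp := prime_of_odd_order hinv hcl hord' hx hy hxy hn3 hod
        have hall : ∀ c ∈ D, ∀ e ∈ D, Commute c e ∨ orderOf (c * e) = n₁ := by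
          intro c hc e he
          by_cases hce : c = e
          · left; rw [hce]
          · rcases hord' c hc e he hce with h | h
            · left; exact hcomm2' c hc e he h
            · right; exact h
        by_cases h3 : n₁ = 3
        · left
          subst h3
          refine ⟨⟨hinv, ?_⟩, hconj, hgen⟩
          intro c hc e he
          rcases hall c hc e he with h | h
          · left
            rw [h.mul_pow, sq, sq, inv_self_of (hinv c hc), inv_self_of (hinv e he), one_mul]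
          · right
            rw [← h, pow_orderOf_eq_one]
        · right
          refine ⟨n₁, hp, ?_, hall⟩
          have : n₁ ≠ 4 := by
            rintro rfl
            exact absurd hod (by decide)
          omega
    · exfalso
      refine no_isolated hsol hinv hcl hcls ?_ hx hy hne
      intro a ha b hb hab
      rcases hord a ha b hb hab with h | h <;> rw [h] <;> assumption

end Cfsg.Agent.Lib.OddTrans.RankReduce
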